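import Cfsg.Agent.Lib.Co3Out.Fin

/-!
Counting Sylow subgroups in subgroups.
-/

set_option autoImplicit false

namespace Cfsg.Agent.Lib.Co3Out

open Cfsg Finset
open Cfsg.Agent.Lib.Golay Cfsg.Agent.Lib
open scoped Pointwise

theorem cent_gen {G : Type*} [Group G] [Finite G] {p : ℕ} [hp : Fact p.Prime] {T : G} (hT : orderOf T = p)
    (h2 : ¬ p ^ 2 ∣ Nat.card G) (hC : ∀ g, g * T = T * g → g ∈ Subgroup.zpowers T)
    {P : Subgroup G} (hP : Nat.card P = p) (g : G) (h : ∀ k ∈ P, k * g = g * k) : g ∈ P := by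
  obtain ⟨s, hs⟩ := exists_prime_orderOf_dvd_card' (G := P) p (by rw [hP])
  have hs' : orderOf (s : G) = p := by rw [Subgroup.orderOf_coe]; exact hs
  obtain ⟨c, k, hc⟩ := OutCrit.exists_conj_pow hp.out (u := T) (v := (s : G)) hT hs' h2
  have hTP : ∀ a : G, a ∈ Subgroup.zpowers T → c⁻¹ * a * c ∈ P := by
    have h1 : Subgroup.zpowers (c * (s : G) * c⁻¹) = Subgroup.zpowers T := by
      apply Subgroup.eq_of_le_of_card_ge
      · rw [Subgroup.zpowers_le, hc]; exact Subgroup.npow_mem_zpowers _ _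
      · rw [Nat.card_zpowers, Nat.card_zpowers, hT]
        have : orderOf (c * (s : G) * c⁻¹) = p := by
          have e : c * (s : G) * c⁻¹ = MulAut.conj c (s : G) := rfl
          rw [e]; exact (MulEquiv.orderOf_eq (MulAut.conj c) _).trans hs'
        rw [this]
    intro a ha
    rw [← h1] at ha
    obtain ⟨m, rfl⟩ := ha
    have e : c⁻¹ * (c * (s : G) * c⁻¹) ^ m * c = (s : G) ^ m := by
      rw [conj_zpow]; group
    show c⁻¹ * (c * (s : G) * c⁻¹) ^ m * c ∈ P
    rw [e]; exact P.zpow_mem s.2 m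
  have h2 : c * g * c⁻¹ ∈ Subgroup.zpowers T := by
    apply hC
    have h3 := h _ (hTP T (Subgroup.mem_zpowers T))
    calc c * g * c⁻¹ * T = c * (g * (c⁻¹ * T * c)) * c⁻¹ := by group
      _ = c * ((c⁻¹ * T * c) * g) * c⁻¹ := by rw [h3]
      _ = T * (c * g * c⁻¹) := by group
  have h4 := hTP _ h2
  have e : c⁻¹ * (c * g * c⁻¹) * c = g := by group
  rwa [e] at h4

theorem count_gen {G : Type*} [Group G] [Finite G] {p : ℕ} [hp : Fact p.Prime] {T : G} (hT : orderOf T = p)
    (h2 : ¬ p ^ 2 ∣ Nat.card G) (hC : ∀ g, g * T = T * g → g ∈ Subgroup.zpowers T) (F : Subgroup G) (hF : p ∣ Nat.card F) :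
    ∃ n d m e, Nat.card G = n * (p * d) ∧ n % p = 1 ∧ d ∣ p - 1 ∧ Nat.card F = m * (p * e) ∧ m % p = 1 ∧ e ∣ d := by
  have hpG : p ∣ Nat.card G := hF.trans (Subgroup.card_subgroup_dvd_card F)
  obtain ⟨Q, hQ, n, hn, hmul, hd⟩ := M22Sub.sylow_num (G := G) p hpG (by rw [← pow_two]; exact h2)
  obtain ⟨P, hP, m, hm, hmul', he⟩ := M22Sub.sylow_num (G := F) p hF (by
    rw [← pow_two]
    intro h; exact h2 (h.trans (Subgroup.card_subgroup_dvd_card F)))
  obtain ⟨d, hd'⟩ := hd
  obtain ⟨e, he'⟩ := he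
  have hdd := norm_dvd hQ (cent_gen hT h2 hC hQ)
  rw [hd'] at hdd
  have hd1 : d ∣ p - 1 := Nat.dvd_of_mul_dvd_mul_left hp.out.pos hdd
  set P' : Subgroup G := P.map F.subtype with hP'
  have hcP' : Nat.card P' = p := by
    rw [hP', Subgroup.card_map_of_injective (Subgroup.subtype_injective _), hP]
  have hfac : (Nat.card G).factorization p = 1 := by
    have h3 : 1 ≤ (Nat.card G).factorization p := (hp.out.dvd_iff_one_le_factorization Nat.card_pos.ne').1 hpG
    have h4 : ¬ 2 ≤ (Nat.card G).factorization p := by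
      intro h; exact h2 ((hp.out.pow_dvd_iff_le_factorization Nat.card_pos.ne').2 h)
    omega
  let P1 : Sylow p G := Sylow.ofCard P' (by rw [hcP', hfac, pow_one])
  let Q1 : Sylow p G := Sylow.ofCard Q (by rw [hQ, hfac, pow_one])
  have h1 : (Subgroup.normalizer ((P1 : Subgroup G) : Set G)).index = (Subgroup.normalizer ((Q1 : Subgroup G) : Set G)).index :=
    (P1.card_eq_index_normalizer).symm.trans Q1.card_eq_index_normalizer
  have h3 : Nat.card (Subgroup.normalizer (P' : Set G)) = Nat.card (Subgroup.normalizer (Q : Set G)) := by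
    have e1 := Subgroup.card_mul_index (Subgroup.normalizer ((P1 : Subgroup G) : Set G))
    have e2 := Subgroup.card_mul_index (Subgroup.normalizer ((Q1 : Subgroup G) : Set G))
    rw [h1] at e1
    have h3 : 0 < (Subgroup.normalizer ((Q1 : Subgroup G) : Set G)).index := Nat.pos_of_ne_zero Subgroup.index_ne_zero_of_finite
    exact Nat.eq_of_mul_eq_mul_right h3 (e1.trans e2.symm)
  have hPn : Nat.card (Subgroup.normalizer (P : Set F)) ∣ Nat.card (Subgroup.normalizer (Q : Set G)) := by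
    rw [← h3, ← Subgroup.card_map_of_injective (K := Subgroup.normalizer (P : Set F)) (Subgroup.subtype_injective F)]
    apply Subgroup.card_dvd_of_le
    rintro _ ⟨g, hg, rfl⟩
    rw [Subgroup.mem_normalizer_iff]
    have hg' := Subgroup.mem_normalizer_iff.1 hg
    intro h
    constructor
    · rintro ⟨h', hh', rfl⟩
      exact ⟨g * h' * g⁻¹, (hg' h').1 hh', by rw [map_mul, map_mul, map_inv]⟩
    · rintro ⟨h', hh', he⟩
      refine ⟨g⁻¹ * h' * g, (hg' _).2 (by group; exact hh'), ?_⟩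
      rw [map_mul, map_mul, map_inv, he]; group
  rw [hd', he'] at hPn
  exact ⟨n, d, m, e, by rw [← hmul, hd'], hn, hd1, by rw [← hmul', he'], hm, Nat.dvd_of_mul_dvd_mul_left hp.out.pos hPn⟩

end Cfsg.Agent.Lib.Co3Out
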