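import Cfsg.Agent.Lib.Golay.LeechHS
import Cfsg.Agent.Lib.Golay.LeechMcLs
import Cfsg.Agent.Lib.Golay.LeechP23
import Cfsg.Agent.Lib.Golay.OutM3

/-!
The stabiliser of a vector of norm 48 and the 552 minimal vectors near it.
-/

set_option autoImplicit false

namespace Cfsg.Agent.Lib.Co3Out

open Cfsg Finset
open Cfsg.Agent.Lib.Golay Cfsg.Agent.Lib
open scoped Pointwise

/-- the standard group -/
abbrev GC : Subgroup Co0 := MulAction.stabilizer Co0 (⟨r5 pa, r5_mem pa⟩ : leechLattice)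

theorem gc_fix (g : GC) : app (g : Co0) (r5 pa) = r5 pa := smul_eq_iff_app.1 g.2
theorem mem_gc {g : Co0} (h : app g (r5 pa) = r5 pa) : g ∈ GC := smul_eq_iff_app.2 h

theorem x0_add : x0 + rO pb = r5 pa := by decide +kernel
theorem rOb_eq : rO pb = r5 pa - x0 := by decide +kernel

theorem rOb_fixU : prm sU (rO pb) = rO pb := by
  rw [prm_rO, sU_pb]

/-- the fixed vectors of the element of order 11 -/
theorem fixOm {x : Vec} (hn : sqNorm x = 32) (hd : dotInt (r5 pa) x = 24) (h : prm sU x = x) : x = x0 ∨ x = rO pb := by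
  have hf := fix11 h
  have hs : ∑ p, x p = x pa + x pb + 11 * x (pt 1) + 11 * x (pt 5) := by
    nth_rw 1 [hf]; exact sum_F4 _ _ _ _
  rw [dot_r5, hs] at hd
  rw [hf, norm_F4] at hn
  have key : ∀ a b c d : ℤ, 4 * a + (a + b + 11 * c + 11 * d) = 24 → a * a + b * b + 11 * (c * c) + 11 * (d * d) = 32 →
      (a = 4 ∧ b = 4 ∧ c = 0 ∧ d = 0) ∨ (a = 1 ∧ b = -3 ∧ c = 1 ∧ d = 1) := by
    intro a b c d h1 h2
    have hc : -1 ≤ c ∧ c ≤ 1 := by constructor <;> nlinarith
    have hd : -1 ≤ d ∧ d ≤ 1 := by constructor <;> nlinarith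
    have ha : -5 ≤ a ∧ a ≤ 5 := by constructor <;> nlinarith
    have hb : b = 24 - 5 * a - 11 * c - 11 * d := by linarith
    subst hb
    obtain ⟨hc1, hc2⟩ := hc
    obtain ⟨hd1, hd2⟩ := hd
    obtain ⟨ha1, ha2⟩ := ha
    interval_cases c <;> interval_cases d <;> interval_cases a <;> omega
  rcases key _ _ _ _ hd hn with ⟨e1, e2, e3, e4⟩ | ⟨e1, e2, e3, e4⟩
  · left
    rw [hf, e1, e2, e3, e4]
    ext p
    revert p
    decide +kernel
  · right
    rw [hf, e1, e2, e3, e4]
    ext p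
    revert p
    decide +kernel

theorem v0_fix' {g : Co0} (h : g * uEl = uEl * g) (h1 : app g (rO pb) = rO pb) (h2 : app g x0 = x0) : app g v0 = v0 := by
  have hf := fix11 (commU_fix h v0_mem v0_fixU)
  have hn : sqNorm (app g v0) = 32 := by rw [app_norm g v0_mem, norm_v0]
  have hd1 : dotInt x0 (app g v0) = 0 := by
    have := app_dot g x0_mem v0_mem
    rw [h2, dotInt_comm x0 v0, dot_v0_x0] at this; exact this
  have hd2 : dotInt (rO pb) (app g v0) = 16 := by
    have := app_dot g (rO_mem pb) v0_mem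
    rw [h1] at this
    rw [this]; decide +kernel
  rw [dot_x0] at hd1
  rw [dot_rO] at hd2
  generalize app g v0 = y at *
  rw [hf, norm_F4] at hn
  have hs : ∑ p, y p = y pa + y pb + 11 * y (pt 1) + 11 * y (pt 5) := by
    nth_rw 1 [hf]; exact sum_F4 _ _ _ _
  rw [hs] at hd2
  have hb : y pb = - y pa := by omega
  rw [hb] at hn
  obtain ⟨ha, hc, hd⟩ := int_cases (a := y pa) (c := y (pt 1)) (d := y (pt 5)) (by linarith)
  rw [hf, hb, hc, hd]
  rw [hc, hd, hb] at hd2
  have ha' : y pa = 4 := by omega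
  rw [ha']
  ext p
  revert p
  decide +kernel

/-- the centraliser of the element of order 11 in the stabiliser of a triangle -/
theorem cent_x0 {g : Co0} (h : g * uEl = uEl * g) (h1 : app g (r5 pa) = r5 pa) (h2 : app g x0 = x0) : ∃ j : ℕ, g = uEl ^ j := by
  refine comm_uEl h (v0_fix' h ?_ h2) h2 (r5_mem pa) h1 (by decide +kernel) (by intro σ ha _; rw [prm_r5, ha])
  rw [rOb_eq, app_sub g (r5_mem pa) x0_mem, h1, h2]

/-- the 552 vectors -/
def Om : Set Vec := {x | x ∈ leechLattice ∧ sqNorm x = 32 ∧ dotInt (r5 pa) x = 24}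

theorem om_app (g : GC) {x : Vec} (h : x ∈ Om) : app (g : Co0) x ∈ Om := by
  refine ⟨app_mem _ h.1, by rw [app_norm _ h.1, h.2.1], ?_⟩
  have := app_dot (g : Co0) (r5_mem pa) h.1
  rw [gc_fix, h.2.2] at this; exact this

theorem om_x0 : x0 ∈ Om := ⟨x0_mem, norm_x0, by decide +kernel⟩

theorem om_bar {x : Vec} (h : x ∈ Om) : r5 pa - x ∈ Om := by
  refine ⟨sub_mem (r5_mem pa) h.1, ?_, ?_⟩
  · rw [sqNorm_sub, norm_r5, h.2.1, h.2.2]; norm_num
  · rw [dotInt_sub_right, dotInt_self, norm_r5, h.2.2]; norm_num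

/-- the points -/
def xj (j : GolayPt) : Vec := sg pa 4 + sg j 4

theorem x0_eq : x0 = xj pb := rfl

theorem xj_add {j : GolayPt} (hj : j ≠ pa) : r5 pa - xj j = rO j := by
  ext k
  unfold xj r5 rO sg
  simp only [Pi.sub_apply, Pi.add_apply]
  by_cases h1 : k = pa
  · subst h1
    rw [if_pos rfl, if_pos rfl, if_neg (Ne.symm hj), if_neg (Ne.symm hj)]; norm_num
  · rw [if_neg h1, if_neg h1]
    split_ifs <;> norm_num

theorem om_cases {y : Vec} (h : y ∈ Om) : (∃ j, j ≠ pa ∧ y = xj j) ∨ (∃ j, j ≠ pa ∧ y = r5 pa - xj j) ∨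
    (∃ O, O ∈ octads ∧ pa ∈ O ∧ y = r8 O) ∨ (∃ O, O ∈ octads ∧ pa ∈ O ∧ y = r5 pa - r8 O) := by
  obtain ⟨hy, hn, h2⟩ := h
  rw [dot_r5] at h2
  rcases shape32 hy hn with ⟨i, j, h⟩ | ⟨O, h⟩ | ⟨j, h⟩
  · left
    rw [h.sum] at h2
    have hval : ∀ k, y k = 4 ∨ y k = -4 ∨ y k = 0 := by
      intro k
      by_cases h1 : k = i
      · subst h1; have := h.2.1; omega
      · by_cases h2 : k = j
        · subst h2; have := h.2.2.1; omega
        · exact Or.inr (Or.inr (h.2.2.2 k h1 h2))
    have ha := hval pa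
    have h3 := h.2.1
    have h4 := h.2.2.1
    have h6 : y pa = 4 := by omega
    have h7 : y i = 4 ∧ y j = 4 := by omega
    have e1 : pa = i ∨ pa = j := by
      by_contra hc; push Not at hc
      have := h.2.2.2 pa hc.1 hc.2; omega
    rw [norm_of_sg h h7.1 h7.2]
    have hij := h.1
    rcases e1 with e1 | e1
    · exact ⟨j, by rw [e1]; exact hij.symm, by unfold xj; rw [e1]⟩
    · exact ⟨i, by rw [e1]; exact hij, by unfold xj; rw [e1, add_comm]⟩
  · right; right; left
    have h3 := h.sum_le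
    have hval : ∀ k, y k = 2 ∨ y k = -2 ∨ y k = 0 := by
      intro k
      by_cases h1 : k ∈ O
      · have := h.2.1 k h1; omega
      · exact Or.inr (Or.inr (h.2.2 k h1))
    have hb := hval pa
    have ha : pa ∈ O := by
      by_contra hc
      have := h.2.2 pa hc; omega
    exact ⟨O, h.1, ha, h.all_pos (by omega)⟩
  · have hw : IsWord (cls y 3) := (h.inL hy).2.2
    have hcard := hw.card
    have hmem : pa ∈ cls y 3 ↔ _ := mem_cls
    rcases h.1 with h3 | h3
    · right; right; right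
      have h4 := h.sum h3
      rw [h4] at h2
      have hpos : 0 < (cls y 3).card := card_pos.2 ⟨j, mem_cls.2 (by rw [h3]; norm_num)⟩
      have haj : pa = j := by
        by_contra hne
        have := h.2 pa hne
        omega
      subst haj
      refine ⟨cls y 3, mem_octads.2 ⟨hw, by omega⟩, hmem.2 (by rw [h3]; norm_num), ?_⟩
      ext k
      rw [h.desc h3 k]
      unfold r5 r8
      simp only [Pi.sub_apply]
      split_ifs <;> norm_num
    · right; left
      have h4 := h.sum' h3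
      rw [h4] at h2
      have ha : y pa ≤ 1 := by
        by_cases hne : pa = j
        · rw [hne, h3]; norm_num
        · have := h.2 pa hne; omega
      have h5 : (cls y 3).card = 0 := by omega
      have h6 := h.of_empty (card_eq_zero.1 h5)
      have hj : j ≠ pa := by
        rintro rfl; omega
      exact ⟨j, hj, by rw [xj_add hj, h6]⟩

/-- the embedding of the stabiliser of a point -/
noncomputable def kapG : m23 →* GC where
  toFun σ := ⟨kap ⟨σ, σ.2.1⟩, mem_gc (by
    rw [kap_app _ (r5_mem pa)]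
    show prm (σ : Equiv.Perm GolayPt) (r5 pa) = r5 pa
    have : (σ : Equiv.Perm GolayPt) pa = pa := σ.2.2
    rw [prm_r5, this])⟩
  map_one' := by
    apply Subtype.ext
    exact map_one kap
  map_mul' a b := by
    apply Subtype.ext
    exact map_mul kap ⟨a, a.2.1⟩ ⟨b, b.2.1⟩

theorem kapG_app (σ : m23) {x : Vec} (hx : x ∈ leechLattice) : app ((kapG σ : GC) : Co0) x = prm σ x :=
  kap_app _ hx

theorem kapG_inj : Function.Injective kapG := by
  intro a b h
  apply Subtype.ext
  apply Equiv.ext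
  intro p
  have h1 : app ((kapG a : GC) : Co0) (sg p 8) = app ((kapG b : GC) : Co0) (sg p 8) := by rw [h]
  rw [kapG_app _ (sg8_mem p), kapG_app _ (sg8_mem p), prm_sg, prm_sg] at h1
  exact (sg_inj (by norm_num) h1).1

end Cfsg.Agent.Lib.Co3Out
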