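import Cfsg.Agent.Lib.Co3Out.Gen
import Cfsg.Agent.Lib.M22Sub.Norm
import Cfsg.Agent.Lib.HSOut.Main

/-!
Such a subgroup is the whole group.
-/

set_option autoImplicit false

namespace Cfsg.Agent.Lib.Co3Out

open Cfsg Finset
open Cfsg.Agent.Lib.Golay Cfsg.Agent.Lib
open scoped Pointwise

/-- normalisers of self-centralising subgroups of prime order -/
theorem norm_dvd {G : Type*} [Group G] [Finite G] {p : ℕ} [Fact p.Prime] {P : Subgroup G} (hP : Nat.card P = p)
    (hC : ∀ g : G, (∀ h ∈ P, h * g = g * h) → g ∈ P) : Nat.card (Subgroup.normalizer (P : Set G)) ∣ p * (p - 1) := by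
  have hcyc : IsCyclic P := isCyclic_of_prime_card hP
  have h1 := Subgroup.card_subgroup_dvd_card P.normalizerMonoidHom.range
  have h2 : Nat.card (MulAut P) = p - 1 := by
    rw [hcyc.card_mulAut, hP, Nat.totient_prime (Fact.out : p.Prime)]
  rw [h2] at h1
  have h3 : Nat.card P.normalizerMonoidHom.ker ∣ p := by
    rw [Subgroup.normalizerMonoidHom_ker]
    have hle : Subgroup.centralizer (P : Set G) ≤ P := by
      intro g hg
      exact hC g (fun h hh => Subgroup.mem_centralizer_iff.1 hg h hh)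
    rw [← hP]
    have h4 : Nat.card ((Subgroup.centralizer (P : Set G)).subgroupOf (Subgroup.normalizer (P : Set G))) =
        Nat.card (((Subgroup.centralizer (P : Set G)).subgroupOf (Subgroup.normalizer (P : Set G))).map (Subgroup.normalizer (P : Set G)).subtype) :=
      (Subgroup.card_map_of_injective (Subgroup.subtype_injective _)).symm
    rw [h4]
    apply Subgroup.card_dvd_of_le
    rintro _ ⟨g, hg, rfl⟩
    exact hle hg
  have h5 : Nat.card (Subgroup.normalizer (P : Set G)) =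
      Nat.card P.normalizerMonoidHom.ker * Nat.card P.normalizerMonoidHom.range := by
    rw [← Subgroup.card_mul_index P.normalizerMonoidHom.ker, Subgroup.index_ker]
  rw [h5]
  exact Nat.mul_dvd_mul h3 h1

theorem fact23 : Fact (Nat.Prime 23) := ⟨by norm_num⟩

/-- centralisers of subgroups of order 23 -/
theorem cent23 {P : Subgroup GC} (hP : Nat.card P = 23) (g : GC) (h : ∀ k ∈ P, k * g = g * k) : g ∈ P := by
  have := fact23
  have := finGC
  obtain ⟨s, hs⟩ := exists_prime_orderOf_dvd_card' (G := P) 23 (by rw [hP])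
  have hs' : orderOf (s : GC) = 23 := by rw [Subgroup.orderOf_coe]; exact hs
  obtain ⟨c, k, hc⟩ := OutCrit.exists_conj_pow (p := 23) (by norm_num) (u := T) (v := (s : GC)) ord_T hs' (by rw [card_GC]; norm_num)
  have hTP : ∀ a : GC, a ∈ Subgroup.zpowers T → c⁻¹ * a * c ∈ P := by
    -- the powers of the image of `s` exhaust the group generated by `T`
    have h1 : Subgroup.zpowers (c * (s : GC) * c⁻¹) = Subgroup.zpowers T := by
      apply Subgroup.eq_of_le_of_card_ge
      · rw [Subgroup.zpowers_le, hc]; exact Subgroup.npow_mem_zpowers _ _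
      · rw [Nat.card_zpowers, Nat.card_zpowers, ord_T]
        have : orderOf (c * (s : GC) * c⁻¹) = 23 := by
          have e : c * (s : GC) * c⁻¹ = MulAut.conj c (s : GC) := rfl
          rw [e]; exact (MulEquiv.orderOf_eq (MulAut.conj c) _).trans hs'
        rw [this]
    intro a ha
    rw [← h1] at ha
    obtain ⟨m, rfl⟩ := ha
    have e : c⁻¹ * (c * (s : GC) * c⁻¹) ^ m * c = (s : GC) ^ m := by
      rw [conj_zpow]; group
    show c⁻¹ * (c * (s : GC) * c⁻¹) ^ m * c ∈ P
    rw [e]; exact P.zpow_mem s.2 m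
  have h2 : c * g * c⁻¹ ∈ Subgroup.zpowers T := by
    apply cent_TG
    have h3 := h _ (hTP T (Subgroup.mem_zpowers T))
    calc c * g * c⁻¹ * T = c * (g * (c⁻¹ * T * c)) * c⁻¹ := by group
      _ = c * ((c⁻¹ * T * c) * g) * c⁻¹ := by rw [h3]
      _ = T * (c * g * c⁻¹) := by group
  have h4 := hTP _ h2
  have e : c⁻¹ * (c * g * c⁻¹) * c = g := by group
  rwa [e] at h4

/-- the normaliser of a subgroup of order 23 has order 253 -/
theorem norm23 {P : Subgroup GC} (hP : Nat.card P = 23) : Nat.card (Subgroup.normalizer (P : Set GC)) = 253 := by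
  have := fact23
  have := finGC
  obtain ⟨Q, hQ, n, hn, hmul, hd⟩ := M22Sub.sylow_num (G := GC) 23 (by rw [card_GC]; norm_num) (by rw [card_GC]; norm_num)
  -- conjugate subgroups
  have hfac : (Nat.card GC).factorization 23 = 1 := by
    rw [card_GC]
    have h2 : 1 ≤ (495766656000 : ℕ).factorization 23 := ((by norm_num : Nat.Prime 23).dvd_iff_one_le_factorization (by norm_num)).1 (by norm_num)
    have h3 : ¬ 2 ≤ (495766656000 : ℕ).factorization 23 := by
      intro h; exact absurd (((by norm_num : Nat.Prime 23).pow_dvd_iff_le_factorization (by norm_num)).2 h) (by norm_num)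
    omega
  let P1 : Sylow 23 GC := Sylow.ofCard P (by rw [hP, hfac, pow_one])
  let Q1 : Sylow 23 GC := Sylow.ofCard Q (by rw [hQ, hfac, pow_one])
  have h1 : (Subgroup.normalizer ((P1 : Subgroup GC) : Set GC)).index = (Subgroup.normalizer ((Q1 : Subgroup GC) : Set GC)).index :=
    (P1.card_eq_index_normalizer).symm.trans Q1.card_eq_index_normalizer
  have h2 : Nat.card (Subgroup.normalizer (P : Set GC)) = Nat.card (Subgroup.normalizer (Q : Set GC)) := by
    have e1 := Subgroup.card_mul_index (Subgroup.normalizer ((P1 : Subgroup GC) : Set GC))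
    have e2 := Subgroup.card_mul_index (Subgroup.normalizer ((Q1 : Subgroup GC) : Set GC))
    rw [h1] at e1
    have h3 : 0 < (Subgroup.normalizer ((Q1 : Subgroup GC) : Set GC)).index := Nat.pos_of_ne_zero Subgroup.index_ne_zero_of_finite
    exact Nat.eq_of_mul_eq_mul_right h3 (e1.trans e2.symm)
  rw [h2]
  have h4 := norm_dvd hQ (cent23 hQ)
  obtain ⟨d, hd'⟩ := hd
  rw [hd'] at h4 hmul ⊢
  have h5 : d ∣ 22 := Nat.dvd_of_mul_dvd_mul_left (by norm_num) h4
  rw [card_GC] at hmul
  have h6 : d ≤ 22 := Nat.le_of_dvd (by norm_num) h5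
  have h7 : d = 1 ∨ d = 2 ∨ d = 11 ∨ d = 22 := by
    interval_cases d <;> first | omega | (exfalso; revert h5; decide)
  rcases h7 with rfl | rfl | rfl | rfl
  · exfalso; omega
  · exfalso; omega
  · rfl
  · exfalso; omega

variable {F : Subgroup Co0}

theorem z_fix {y : GC} (hfix : ∀ σ : m22, prm (σ : Equiv.Perm GolayPt) (app (y : Co0) (sg pa 8)) = app (y : Co0) (sg pa 8))
    (hyx : app (y : Co0) x0 = rO pb) : False := by
  have hn : sqNorm (app (y : Co0) (sg pa 8)) = 64 := by
    rw [app_norm _ (sg8_mem pa)]; decide +kernel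
  have hd1 : dotInt (r5 pa) (app (y : Co0) (sg pa 8)) = 40 := by
    have := app_dot (y : Co0) (r5_mem pa) (sg8_mem pa)
    rw [gc_fix] at this
    rw [this]; decide +kernel
  have hd2 : dotInt (rO pb) (app (y : Co0) (sg pa 8)) = 32 := by
    have := app_dot (y : Co0) x0_mem (sg8_mem pa)
    rw [hyx] at this
    rw [this]; decide +kernel
  have hU : prm sU (app (y : Co0) (sg pa 8)) = app (y : Co0) (sg pa 8) := hfix ⟨pm cU, by
    refine ⟨⟨mem_M24_U, ?_⟩, ?_⟩
    · exact sU_pa
    · exact sU_pb⟩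
  have h15 : ∃ σ ∈ M24, σ pa = pa ∧ σ pb = pb ∧ σ (pt 1) = pt 5 :=
    exists_map_three (by decide) (by decide)
  obtain ⟨σ, hσ, f1, f2, f3⟩ := h15
  have hs : prm σ (app (y : Co0) (sg pa 8)) = app (y : Co0) (sg pa 8) := hfix ⟨σ, ⟨hσ, f1⟩, f2⟩
  generalize app (y : Co0) (sg pa 8) = z at *
  have e15 : z (pt 5) = z (pt 1) := by
    have := congrFun hs (pt 5)
    have e : prm σ z (pt 5) = z (pt 1) := by
      show z (σ.symm (pt 5)) = z (pt 1)
      rw [← f3, Equiv.symm_apply_apply]
    rw [← this, e]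
  have hf := fix11 hU
  have hsum : ∑ p, z p = z pa + z pb + 11 * z (pt 1) + 11 * z (pt 5) := by
    nth_rw 1 [hf]; exact sum_F4 _ _ _ _
  rw [dot_r5, hsum, e15] at hd1
  rw [dot_rO, hsum, e15] at hd2
  rw [hf, norm_F4, e15] at hn
  have key : ∀ a b c : ℤ, a * a + b * b + 11 * (c * c) + 11 * (c * c) = 64 → 4 * a + (a + b + 11 * c + 11 * c) = 40 →
      a + b + 11 * c + 11 * c - 4 * b = 32 → False := by
    intro a b c h1 h2 h3
    have hc : -1 ≤ c ∧ c ≤ 1 := by constructor <;> nlinarith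
    obtain ⟨hc1, hc2⟩ := hc
    have hb : b = 2 - a := by omega
    subst hb
    obtain rfl | rfl | rfl : c = -1 ∨ c = 0 ∨ c = 1 := by omega
    · have ha : a = 15 := by omega
      subst ha
      norm_num at h1
    · omega
    · have ha : a = 4 := by omega
      subst ha
      norm_num at h1
  exact key _ _ _ hn hd1 hd2

theorem gen (hF : F ≤ GC) (hM : ∀ σ : m23, ((kapG σ : GC) : Co0) ∈ F) {y : Co0} (hy : y ∈ F) (hyx : app y x0 = rO pb) :
    F = GC := by
  have := fact23
  have := finGC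
  have := finCo0
  have hcF := card_F hF hM hy hyx
  set F0 : Subgroup Co0 := F ⊓ MulAction.stabilizer Co0 (⟨x0, x0_mem⟩ : leechLattice) with hF0
  -- the image of the two-point stabiliser
  set κ : m22 →* Co0 := GC.subtype.comp (kapG.comp (Subgroup.inclusion (show m22 ≤ m23 from inf_le_left))) with hκ
  have hκi : Function.Injective κ := by
    intro a b h
    have h1 := kapG_inj (Subtype.ext h)
    exact Subgroup.inclusion_injective _ h1
  have hκa : ∀ (σ : m22) {x : Vec}, x ∈ leechLattice → app (κ σ) x = prm (σ : Equiv.Perm GolayPt) x := fun σ x hx => kapG_app _ hx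
  have hcM : Nat.card κ.range = 443520 := by
    rw [← Nat.card_congr (MonoidHom.ofInjective hκi).toEquiv, card_m22]
  have hMle : κ.range ≤ F0 := by
    rintro _ ⟨σ, rfl⟩
    refine ⟨hM _, smul_eq_iff_app.2 ?_⟩
    show app (κ σ) x0 = x0
    rw [hκa σ x0_mem]
    exact prm_x0 σ.2.1.2 σ.2.2
  obtain ⟨i, hi⟩ := Subgroup.card_dvd_of_le hMle
  rw [hcM] at hi
  have hdv : Nat.card F ∣ 495766656000 := by rw [← card_GC]; exact Subgroup.card_dvd_of_le hF
  have hF2 : Nat.card F = 244823040 * i := by rw [hcF, hi]; ring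
  have hidv : i ∣ 2025 := by
    rw [hF2] at hdv
    exact Nat.dvd_of_mul_dvd_mul_left (by norm_num : 0 < 244823040) hdv
  obtain ⟨P, hP, n, hn, hmul, hd⟩ := M22Sub.sylow_num (G := F) 23 (by rw [hF2]; exact ⟨10644480 * i, by ring⟩) (by
    intro h
    exact absurd (h.trans hdv) (by norm_num))
  -- normaliser
  have hPn : Nat.card (Subgroup.normalizer (P : Set F)) ∣ 253 := by
    set P' : Subgroup GC := P.map (Subgroup.inclusion hF) with hP'
    have hcP' : Nat.card P' = 23 := by
      rw [hP', Subgroup.card_map_of_injective (Subgroup.inclusion_injective hF), hP]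
    rw [← norm23 hcP', ← Subgroup.card_map_of_injective (K := Subgroup.normalizer (P : Set F)) (Subgroup.inclusion_injective hF)]
    apply Subgroup.card_dvd_of_le
    rintro _ ⟨g, hg, rfl⟩
    rw [Subgroup.mem_normalizer_iff]
    have hg' := Subgroup.mem_normalizer_iff.1 hg
    intro h
    constructor
    · rintro ⟨h', hh', rfl⟩
      exact ⟨g * h' * g⁻¹, (hg' h').1 hh', by rw [map_mul, map_mul, map_inv]⟩
    · rintro ⟨h', hh', he⟩
      refine ⟨g⁻¹ * h' * g, (hg' _).2 (by group; exact hh'), ?_⟩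
      rw [map_mul, map_mul, map_inv, he]; group
  obtain ⟨d, hd'⟩ := hd
  rw [hd'] at hPn hmul
  have hd11 : d ∣ 11 := Nat.dvd_of_mul_dvd_mul_left (by norm_num : 0 < 23) hPn
  have hd2 : d = 1 ∨ d = 11 := (Nat.dvd_prime (by norm_num)).1 hd11
  rw [hF2] at hmul
  have hi' : i = 1 ∨ i = 2025 := by
    have hle : i ≤ 2025 := Nat.le_of_dvd (by norm_num) hidv
    have hdiv : i ∈ Nat.divisors 2025 := Nat.mem_divisors.2 ⟨hidv, by norm_num⟩
    have hdd : Nat.divisors 2025 = {1, 3, 5, 9, 15, 25, 27, 45, 75, 81, 135, 225, 405, 675, 2025} := by decide +kernel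
    rw [hdd] at hdiv
    simp only [mem_insert, mem_singleton] at hdiv
    rcases hd2 with rfl | rfl
    · rcases hdiv with rfl | rfl | rfl | rfl | rfl | rfl | rfl | rfl | rfl | rfl | rfl | rfl | rfl | rfl | rfl <;> omega
    · rcases hdiv with rfl | rfl | rfl | rfl | rfl | rfl | rfl | rfl | rfl | rfl | rfl | rfl | rfl | rfl | rfl <;> omega
  rcases hi' with rfl | rfl
  · exfalso
    have hFM : κ.range = F0 := by
      have : Finite F0 := inferInstance
      apply Subgroup.eq_of_le_of_card_ge hMle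
      rw [hcM, hi]
    have hyG := hF hy
    have hyv : app y (r5 pa) = r5 pa := gc_fix ⟨y, hyG⟩
    have hyb : app y (rO pb) = x0 := swap_rO (g := ⟨y, hyG⟩) hyx
    refine z_fix (y := ⟨y, hyG⟩) ?_ hyx
    intro σ
    show prm (σ : Equiv.Perm GolayPt) (app y (sg pa 8)) = app y (sg pa 8)
    have h1 : y⁻¹ * κ σ * y ∈ F0 := by
      have hσF : κ σ ∈ F0 := hMle ⟨σ, rfl⟩
      refine ⟨F.mul_mem (F.mul_mem (F.inv_mem hy) hσF.1) hy, smul_eq_iff_app.2 ?_⟩
      show app (y⁻¹ * κ σ * y) x0 = x0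
      rw [app_mul, app_mul, hyx]
      have h2 : app (κ σ) (rO pb) = rO pb := by
        rw [hκa σ (rO_mem pb), prm_rO]
        have : (σ : Equiv.Perm GolayPt) pb = pb := σ.2.2
        rw [this]
      rw [h2, ← app_eq_iff]; exact hyx
    rw [← hFM] at h1
    obtain ⟨τ, hτ⟩ := h1
    have h3 : κ σ * y = y * κ τ := by rw [hτ]; group
    rw [← hκa σ (app_mem _ (sg8_mem pa)), ← app_mul, h3, app_mul, hκa τ (sg8_mem pa), prm_sg]
    have : (τ : Equiv.Perm GolayPt) pa = pa := τ.2.1.2
    rw [this]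
  · apply Subgroup.eq_of_le_of_card_ge hF
    rw [hF2, card_GC]

theorem out_GC : Nat.card (Out GC) = 1 := by
  apply OutCrit.card_out_one
  intro α
  obtain ⟨c, hc⟩ := normal_form α
  refine ⟨c, ?_⟩
  set γ : GC →* GC := (MulAut.conj c * α).toMonoidHom with hγ
  have hγa : ∀ x, γ x = c * α x * c⁻¹ := fun x => rfl
  simp only [← hγa] at hc ⊢
  have hinj : Function.Injective γ := (MulAut.conj c * α).injective
  obtain ⟨y, hy, hyx⟩ := fixed_swap γ hinj hc
  set F' : Subgroup GC := γ.eqLocus (MonoidHom.id GC) with hF'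
  have h1 : F'.map GC.subtype = GC := by
    refine gen (y := (y : Co0)) ?_ ?_ ?_ hyx
    · rintro _ ⟨g, _, rfl⟩; exact g.2
    · intro σ; exact ⟨kapG σ, hc σ, rfl⟩
    · exact ⟨y, hy, rfl⟩
  intro x
  have h2 : (x : Co0) ∈ F'.map GC.subtype := by rw [h1]; exact x.2
  obtain ⟨g, hg, h3⟩ := h2
  have h4 : g = x := Subtype.ext h3
  rw [← h4]; exact hg

theorem co3_std : Nonempty (Spor.Co3 ≃* GC) := by
  have e1 : (MulAction.stabilizer Co0 (Spor.leechV)) ≃* Spor.Co3 :=
    subgroupOfEquivInf Co0 (MulAction.stabilizer _ Spor.leechV)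
  obtain ⟨g, hg⟩ := toR5 Spor.leechV.2 (by decide +kernel)
  obtain ⟨h, hh⟩ := toR5 (r5_mem pa) (norm_r5 pa)
  have h1 : (h⁻¹ * g) • Spor.leechV = (⟨r5 pa, r5_mem pa⟩ : leechLattice) := by
    apply smul_eq_iff_app.2
    rw [app_mul, hg, ← hh, app_inv_app]
  have h2 : GC = (MulAction.stabilizer Co0 (Spor.leechV)).map (MulAut.conj (h⁻¹ * g)).toMonoidHom := by
    have := MulAction.stabilizer_smul_eq_stabilizer_map_conj (h⁻¹ * g) Spor.leechV
    rw [h1] at this
    exact this
  exact ⟨e1.symm.trans (((MulAction.stabilizer Co0 (Spor.leechV)).equivMapOfInjective _ (MulAut.conj (h⁻¹ * g)).injective).trans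
    (MulEquiv.subgroupCongr h2.symm))⟩

end Cfsg.Agent.Lib.Co3Out
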