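import Cfsg.Agent.Lib.Co3Out.Swap

/-!
Subgroups containing the stabiliser of a coordinate and a swapping element.
-/

set_option autoImplicit false

namespace Cfsg.Agent.Lib.Co3Out

open Cfsg Finset
open Cfsg.Agent.Lib.Golay Cfsg.Agent.Lib
open scoped Pointwise

theorem xj_mem {j : GolayPt} (hj : j ≠ pa) : xj j ∈ leechLattice :=
  sg_add_mem (Ne.symm hj) (Or.inl rfl) (Or.inl rfl)

theorem xj_inj {j k : GolayPt} (hj : j ≠ pa) (h : xj j = xj k) : j = k := by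
  have h1 := congrFun h j
  unfold xj sg at h1
  simp only [Pi.add_apply, if_pos rfl] at h1
  rw [if_neg hj] at h1
  by_contra hne
  rw [if_neg hne] at h1
  norm_num at h1

theorem sum_xj : ∑ j ∈ univ.erase pa, xj j = (4 : ℤ) • r5 pa + (9 : ℤ) • sg pa 8 := by decide +kernel

/-- the swapping element does not preserve the set of the 46 special vectors -/
theorem no_frame {y : GC} (h : ∀ j, j ≠ pa → ∃ k, k ≠ pa ∧ app (y : Co0) (xj j) = r5 pa - xj k) : False := by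
  choose! σ hσ1 hσ2 using h
  have hinj : Set.InjOn σ (univ.erase pa : Finset GolayPt) := by
    intro i hi j hj hij
    rw [mem_coe, mem_erase] at hi hj
    have h1 : app (y : Co0) (xj i) = app (y : Co0) (xj j) := by
      rw [hσ2 i hi.1, hσ2 j hj.1, hij]
    exact xj_inj hi.1 (app_injective _ h1)
  have hmaps : ∀ i ∈ (univ.erase pa : Finset GolayPt), σ i ∈ (univ.erase pa : Finset GolayPt) := by
    intro i hi
    rw [mem_erase] at hi ⊢
    exact ⟨hσ1 i hi.1, mem_univ _⟩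
  have hsurj : Set.SurjOn σ (univ.erase pa : Finset GolayPt) (univ.erase pa : Finset GolayPt) :=
    Finset.surjOn_of_injOn_of_card_le σ hmaps hinj le_rfl
  have hs1 : ∑ j ∈ univ.erase pa, app (y : Co0) (xj j) = ∑ k ∈ univ.erase pa, (r5 pa - xj k) :=
    Finset.sum_nbij σ hmaps hinj hsurj (fun j hj => hσ2 j (mem_erase.1 hj).1)
  have hs2 : app (y : Co0) (∑ j ∈ univ.erase pa, xj j) = ∑ j ∈ univ.erase pa, app (y : Co0) (xj j) :=
    app_sum _ _ _ (fun j hj => xj_mem (mem_erase.1 hj).1)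
  have hcard : (univ.erase pa : Finset GolayPt).card = 23 := by
    rw [card_erase_of_mem (mem_univ _), card_univ, card_golayPt]
  rw [hs1, sum_xj, sum_sub_distrib, sum_xj, sum_const, hcard, app_add _ (zsmul_mem (r5_mem pa) _) (zsmul_mem (sg8_mem pa) _),
    app_zsmul _ (r5_mem pa), app_zsmul _ (sg8_mem pa), gc_fix] at hs2
  have h1 := congrFun hs2 pa
  simp only [Pi.add_apply, Pi.sub_apply, Pi.smul_apply, smul_eq_mul, nsmul_eq_mul] at h1
  have e1 : r5 pa pa = 5 := by unfold r5; rw [if_pos rfl]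
  have e2 : sg pa 8 pa = 8 := by unfold sg; rw [if_pos rfl]
  rw [e1, e2] at h1
  generalize app (y : Co0) (sg pa 8) pa = t at h1
  norm_num at h1
  omega

theorem dot_x0_xj {j : GolayPt} (hj : j ≠ pa) : dotInt x0 (xj j) = if j = pb then 32 else 16 := by
  by_cases h : j = pb
  · rw [if_pos h, h, ← x0_eq, dotInt_self, Golay.norm_x0]
  · rw [if_neg h, dot_x0]
    unfold xj sg
    simp only [Pi.add_apply]
    rw [if_pos trivial, if_neg (Ne.symm hj), if_neg (Ne.symm pa_ne_pb), if_neg (Ne.symm h)]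
    norm_num

/-- the swapping element maps some special vector outside -/
theorem exists_out {y : GC} (hy : app (y : Co0) x0 = rO pb) : ∃ j, j ≠ pa ∧
    ((∃ O, O ∈ octads ∧ pa ∈ O ∧ app (y : Co0) (xj j) = r8 O) ∨ (∃ O, O ∈ octads ∧ pa ∈ O ∧ app (y : Co0) (xj j) = r5 pa - r8 O)) := by
  by_contra hc
  push Not at hc
  apply no_frame (y := y)
  intro j hj
  have hom : xj j ∈ Om := by
    refine ⟨xj_mem hj, sqNorm_sg_add (Ne.symm hj) (Or.inl rfl) (Or.inl rfl), ?_⟩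
    rw [dotInt_comm]
    unfold xj
    rw [dotInt_add_left, dot_sg, dot_sg]
    unfold r5
    rw [if_pos rfl, if_neg hj]; norm_num
  rcases om_cases (om_app y hom) with ⟨k, hk, h⟩ | ⟨k, hk, h⟩ | ⟨O, hO, ha, h⟩ | ⟨O, hO, ha, h⟩
  · exfalso
    have h1 := app_dot (y : Co0) x0_mem (xj_mem hj)
    rw [h, hy, rOb_eq, dotInt_sub_left, dot_x0_xj hk, dot_x0_xj hj] at h1
    have h2 : dotInt (r5 pa) (xj k) = 24 := by
      rw [← h]; exact (om_app y hom).2.2
    rw [h2] at h1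
    split_ifs at h1 <;> omega
  · exact ⟨k, hk, h⟩
  · exact absurd h ((hc j hj).1 O hO ha)
  · exact absurd h ((hc j hj).2 O hO ha)

variable {F : Subgroup Co0}

theorem trans_xj (hM : ∀ σ : m23, ((kapG σ : GC) : Co0) ∈ F) {j k : GolayPt} (hj : j ≠ pa) (hk : k ≠ pa) :
    ∃ f ∈ F, app f (r5 pa) = r5 pa ∧ app f (xj j) = xj k := by
  have hex : ∃ c : GolayPt, c ≠ pa ∧ c ≠ j ∧ ∃ c' : GolayPt, c' ≠ pa ∧ c' ≠ k := by
    obtain ⟨c, hc⟩ := Finset.exists_mem_notMem_of_card_lt_card (s := ({pa, j} : Finset GolayPt)) (t := univ)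
      (by rw [card_univ, card_golayPt]; exact lt_of_le_of_lt card_le_two (by norm_num))
    obtain ⟨c', hc'⟩ := Finset.exists_mem_notMem_of_card_lt_card (s := ({pa, k} : Finset GolayPt)) (t := univ)
      (by rw [card_univ, card_golayPt]; exact lt_of_le_of_lt card_le_two (by norm_num))
    simp only [mem_insert, mem_singleton, not_or] at hc hc'
    exact ⟨c, hc.2.1, hc.2.2, c', hc'.2.1, hc'.2.2⟩
  obtain ⟨c, c1, c2, c', c3, c4⟩ := hex
  obtain ⟨σ, hσ, f1, f2, -⟩ := exists_map_three (a := pa) (b := j) (c := c) (a' := pa) (b' := k) (c' := c')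
    (by simp only [List.nodup_cons, List.mem_cons, List.not_mem_nil, or_false, not_or, List.nodup_nil, and_true,
            not_false_eq_true]
        exact ⟨⟨hj.symm, c1.symm⟩, c2.symm⟩)
    (by simp only [List.nodup_cons, List.mem_cons, List.not_mem_nil, or_false, not_or, List.nodup_nil, and_true,
            not_false_eq_true]
        exact ⟨⟨hk.symm, c3.symm⟩, c4.symm⟩)
  refine ⟨_, hM ⟨σ, hσ, f1⟩, gc_fix _, ?_⟩
  rw [kapG_app _ (xj_mem hj)]
  unfold xj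
  rw [prm_add, prm_sg, prm_sg]
  show sg (σ pa) 4 + sg (σ j) 4 = _
  rw [f1, f2]

theorem trans_r8 (hM : ∀ σ : m23, ((kapG σ : GC) : Co0) ∈ F) {O O' : Finset GolayPt} (hO : O ∈ octads) (hO' : O' ∈ octads)
    (ha : pa ∈ O) (ha' : pa ∈ O') : ∃ f ∈ F, app f (r5 pa) = r5 pa ∧ app f (r8 O) = r8 O' := by
  obtain ⟨σ, hσ, f1, f2⟩ := oct_in hO hO' (k := 1) (by norm_num) (x := fun _ => pa) (y := fun _ => pa)
    (fun _ _ => ha) (by intro i hi j hj; omega) (fun _ _ => ha') (by intro i hi j hj; omega)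
  refine ⟨_, hM ⟨σ, hσ, f2 0 (by norm_num)⟩, gc_fix _, ?_⟩
  rw [kapG_app _ (r8_mem hO), prm_r8]
  show r8 (σ • O) = _
  rw [f1]

/-- transitivity on the 552 vectors -/
theorem trans_om (hF : F ≤ GC) (hM : ∀ σ : m23, ((kapG σ : GC) : Co0) ∈ F) {y : Co0} (hy : y ∈ F) (hyx : app y x0 = rO pb)
    {w : Vec} (hw : w ∈ Om) : ∃ f ∈ F, app f x0 = w := by
  have hv : ∀ f ∈ F, app f (r5 pa) = r5 pa := fun f hf => gc_fix ⟨f, hF hf⟩
  have hyb : app y (rO pb) = x0 := swap_rO (g := ⟨y, hF hy⟩) hyx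
  -- the orbit is closed under the complement
  have hbar : ∀ w, (∃ f ∈ F, app f x0 = w) → ∃ f ∈ F, app f x0 = r5 pa - w := by
    rintro w ⟨f, hf, rfl⟩
    refine ⟨f * y, F.mul_mem hf hy, ?_⟩
    rw [app_mul, hyx, rOb_eq, app_sub _ (r5_mem pa) x0_mem, hv f hf]
  have hcomp : ∀ w w', (∃ f ∈ F, app f x0 = w) → (∃ f ∈ F, app f w = w') → ∃ f ∈ F, app f x0 = w' := by
    rintro w w' ⟨f, hf, rfl⟩ ⟨f', hf', rfl⟩
    exact ⟨f' * f, F.mul_mem hf' hf, by rw [app_mul]⟩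
  have h0 : ∀ k, k ≠ pa → ∃ f ∈ F, app f x0 = xj k := by
    intro k hk
    obtain ⟨f, hf, -, h⟩ := trans_xj hM (j := pb) (Ne.symm pa_ne_pb) hk
    exact ⟨f, hf, h⟩
  have h8 : ∀ O, O ∈ octads → pa ∈ O → ∃ f ∈ F, app f x0 = r8 O := by
    intro O hO ha
    obtain ⟨j, hj, h⟩ := exists_out (y := ⟨y, hF hy⟩) hyx
    have h1 : ∃ f ∈ F, app f x0 = app y (xj j) := hcomp _ _ (h0 j hj) ⟨y, hy, rfl⟩
    rcases h with ⟨O', hO', ha', h⟩ | ⟨O', hO', ha', h⟩
    · have h' : app y (xj j) = r8 O' := h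
      rw [h'] at h1
      obtain ⟨f, hf, -, h2⟩ := trans_r8 hM hO' hO ha' ha
      exact hcomp _ _ h1 ⟨f, hf, h2⟩
    · have h' : app y (xj j) = r5 pa - r8 O' := h
      rw [h'] at h1
      have h3 := hbar _ h1
      rw [sub_sub_cancel] at h3
      obtain ⟨f, hf, -, h2⟩ := trans_r8 hM hO' hO ha' ha
      exact hcomp _ _ h3 ⟨f, hf, h2⟩
  rcases om_cases hw with ⟨k, hk, rfl⟩ | ⟨k, hk, rfl⟩ | ⟨O, hO, ha, rfl⟩ | ⟨O, hO, ha, rfl⟩
  · exact h0 k hk
  · exact hbar _ (h0 k hk)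
  · exact h8 O hO ha
  · exact hbar _ (h8 O hO ha)

theorem card_Om : Om.ncard = 552 := by
  obtain ⟨g, hg⟩ := toR5 (r5_mem pa) (norm_r5 pa)
  exact (ncard_dot1 g (r5_mem pa) hg 24 32).trans c_552

theorem card_F (hF : F ≤ GC) (hM : ∀ σ : m23, ((kapG σ : GC) : Co0) ∈ F) {y : Co0} (hy : y ∈ F) (hyx : app y x0 = rO pb) :
    Nat.card F = 552 * Nat.card (F ⊓ MulAction.stabilizer Co0 (⟨x0, x0_mem⟩ : leechLattice) : Subgroup Co0) := by
  rw [card_mul_inf_stab F (⟨x0, x0_mem⟩ : leechLattice)]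
  congr 1
  have h1 : MulAction.orbit F (⟨x0, x0_mem⟩ : leechLattice) = {w : leechLattice | sqNorm (w : Vec) = 32 ∧ dotInt (r5 pa) (w : Vec) = 24} := by
    ext w
    constructor
    · rintro ⟨f, rfl⟩
      have e : (((f • (⟨x0, x0_mem⟩ : leechLattice) : leechLattice)) : Vec) = app (f : Co0) x0 := (app_coe (f : Co0) _).symm
      show sqNorm (((f • (⟨x0, x0_mem⟩ : leechLattice) : leechLattice)) : Vec) = 32 ∧
        dotInt (r5 pa) (((f • (⟨x0, x0_mem⟩ : leechLattice) : leechLattice)) : Vec) = 24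
      rw [e]
      exact (om_app ⟨f, hF f.2⟩ om_x0).2
    · rintro ⟨w1, w2⟩
      obtain ⟨f, hf, h⟩ := trans_om hF hM hy hyx (w := (w : Vec)) ⟨w.2, w1, w2⟩
      refine ⟨⟨f, hf⟩, Subtype.ext ?_⟩
      show (((f • (⟨x0, x0_mem⟩ : leechLattice) : leechLattice)) : Vec) = w
      rw [← app_coe]; exact h
  rw [h1, ncard_sub _ (fun w => sqNorm w = 32 ∧ dotInt (r5 pa) w = 24) (fun x => Iff.rfl)]
  exact card_Om

end Cfsg.Agent.Lib.Co3Out
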